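import Mathlib.AlgebraicGeometry.Morphisms.ClosedImmersion
import Mathlib.AlgebraicGeometry.Morphisms.FiniteType
import Mathlib.AlgebraicGeometry.Morphisms.Immersion
import Mathlib.AlgebraicGeometry.Noetherian
import Mathlib.RingTheory.Filtration
import Mathlib.Topology.JacobsonSpace

/-!
# Morphisms out of a Noetherian Jacobson scheme are determined on infinitesimal neighbourhoods
of closed points
-/

set_option autoImplicit false
set_option linter.style.haveILetI false
universe u

open CategoryTheory CategoryTheory.Limits AlgebraicGeometry TopologicalSpace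

namespace Groth.Agent.H58Mg0.Ext

/-- An element lying in all powers of all maximal ideals of a Noetherian ring is zero. -/
theorem eq_zero_of_forall_mem_pow {R : Type u} [CommRing R] [IsNoetherianRing R] (a : R)
    (h : ∀ (m : Ideal R), m.IsMaximal → ∀ n : ℕ, a ∈ m ^ (n + 1)) : a = 0 := by
  by_contra ha
  obtain ⟨m, hm, hle⟩ := Ideal.exists_le_maximal (LinearMap.ker (LinearMap.toSpanSingleton R R a))
    ((Ideal.ne_top_iff_one _).2 fun h1 => ha (by simpa using h1))
  have hmem : a ∈ (⨅ i : ℕ, m ^ i • ⊤ : Submodule R R) := by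
    rw [Submodule.mem_iInf]
    intro i
    have : a ∈ m ^ i := Ideal.pow_le_pow_right (Nat.le_succ i) (h m hm i)
    simpa using this
  obtain ⟨r, hr⟩ := (Ideal.mem_iInf_smul_pow_eq_bot_iff m a).1 hmem
  have h1 : (1 - (r : R)) ∈ m := hle (by
    simp only [LinearMap.mem_ker, LinearMap.toSpanSingleton_apply, sub_smul, one_smul, hr, sub_self])
  exact hm.ne_top ((Ideal.eq_top_iff_one _).2 (by simpa using m.add_mem h1 r.2))

/-- Evaluation of `Spec.map` on the top open. -/
theorem eq_zero_of_app {A B : Type u} [CommRing A] [CommRing B] (q : A →+* B)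
    (V : (Spec (CommRingCat.of A)).Opens) (e : V = ⊤) (a : A)
    (h : ((Spec.map (CommRingCat.ofHom q)).app V).hom (((Spec (CommRingCat.of A)).presheaf.map (eqToHom e).op).hom
      ((Scheme.ΓSpecIso (CommRingCat.of A)).inv.hom a)) = 0) : q a = 0 := by
  subst e
  simp only [eqToHom_refl, op_id, CategoryTheory.Functor.map_id, CommRingCat.hom_id, RingHom.id_apply] at h
  have hn := congrArg (fun f => f.hom a) (Scheme.ΓSpecIso_inv_naturality (CommRingCat.ofHom q))
  simp only [CommRingCat.hom_comp, RingHom.comp_apply, CommRingCat.hom_ofHom] at hn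
  replace h := hn.trans h
  exact (ConcreteCategory.bijective_of_isIso (Scheme.ΓSpecIso (CommRingCat.of B)).inv).1
    (h.trans (map_zero _).symm)

/-- Two morphisms which agree on every infinitesimal neighbourhood of every closed point are equal. -/
theorem hom_ext_of_thick {Y N S : Scheme.{u}} [IsLocallyNoetherian Y] [JacobsonSpace Y]
    (p : N ⟶ S) (g1 g2 : Y ⟶ N) (hg : g1 ≫ p = g2 ≫ p)
    (h : ∀ (U : Y.Opens) (hU : IsAffineOpen U) (m : Ideal Γ(Y, U)), m.IsMaximal → ∀ n : ℕ,
      (Spec.map (CommRingCat.ofHom (Ideal.Quotient.mk (m ^ (n + 1)))) ≫ hU.fromSpec) ≫ g1 =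
        (Spec.map (CommRingCat.ofHom (Ideal.Quotient.mk (m ^ (n + 1)))) ≫ hU.fromSpec) ≫ g2) :
    g1 = g2 := by
  let ι := pullback.fst (pullback.lift g1 g2 hg) (pullback.diagonal p)
  have hι : ι ≫ g1 = ι ≫ g2 := by
    have hc := pullback.condition (f := pullback.lift g1 g2 hg) (g := pullback.diagonal p)
    have h1 := congrArg (fun q => q ≫ pullback.fst p p) hc
    have h2 := congrArg (fun q => q ≫ pullback.snd p p) hc
    simp only [Category.assoc, pullback.lift_fst, pullback.lift_snd, pullback.diagonal_fst,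
      pullback.diagonal_snd, Category.comp_id] at h1 h2
    exact h1.trans h2.symm
  haveI : IsImmersion ι := inferInstanceAs (IsImmersion (pullback.fst _ _))
  have hfac : ∀ (U : Y.Opens) (hU : IsAffineOpen U) (m : Ideal Γ(Y, U)), m.IsMaximal → ∀ n : ℕ,
      ∃ l, l ≫ ι = Spec.map (CommRingCat.ofHom (Ideal.Quotient.mk (m ^ (n + 1)))) ≫ hU.fromSpec := by
    intro U hU m hm n
    exact ⟨pullback.lift _ _ (by
      apply pullback.hom_ext
      · simp only [Category.assoc, pullback.lift_fst, pullback.diagonal_fst, Category.comp_id]; rfl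
      · simp only [Category.assoc, pullback.lift_snd, pullback.diagonal_snd, Category.comp_id]
        simpa only [Category.assoc] using (h U hU m hm n).symm), pullback.lift_fst _ _ _⟩
  have hclosed : closedPoints Y ⊆ Set.range ι := by
    intro y hy
    obtain ⟨U, hU, hyU, -⟩ := exists_isAffineOpen_mem_and_subset (U := (⊤ : Y.Opens)) (x := y) trivial
    let P := hU.primeIdealOf ⟨y, hyU⟩
    haveI hP : P.asIdeal.IsMaximal := hU.primeIdealOf_isMaximal_of_isClosed ⟨y, hyU⟩ hy
    obtain ⟨l, hl⟩ := hfac U hU P.asIdeal hP 0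
    haveI : Nontrivial (Γ(Y, U) ⧸ P.asIdeal ^ (0 + 1)) :=
      Ideal.Quotient.nontrivial_iff.2 (by simpa using hP.ne_top)
    obtain ⟨z⟩ : Nonempty (PrimeSpectrum (Γ(Y, U) ⧸ P.asIdeal ^ (0 + 1))) := inferInstance
    refine ⟨l z, ?_⟩
    show ι (l z) = y
    rw [show ι (l z) = (l ≫ ι) z from rfl, hl]
    have hz : PrimeSpectrum.comap (Ideal.Quotient.mk (P.asIdeal ^ (0 + 1))) z = P := by
      refine PrimeSpectrum.ext (hP.eq_of_le (PrimeSpectrum.comap _ z).isPrime.ne_top ?_).symm
      intro a ha
      show Ideal.Quotient.mk _ a ∈ z.asIdeal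
      rw [Ideal.Quotient.eq_zero_iff_mem.2 (by simpa using ha)]
      exact z.asIdeal.zero_mem
    have hP' := hU.fromSpec_primeIdealOf ⟨y, hyU⟩
    exact (congrArg hU.fromSpec hz).trans hP'
  have huniv : Set.range ι = Set.univ := by
    have hlc : IsLocallyClosed (Set.range ι) := ι.isLocallyClosed_range
    obtain ⟨U, F, hUo, hFc, heq⟩ := hlc
    have hF : F = Set.univ := by
      refine Set.eq_univ_of_univ_subset ?_
      rw [← closure_closedPoints (X := Y)]
      exact hFc.closure_subset_iff.2 (hclosed.trans (heq.subset.trans Set.inter_subset_right))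
    subst hF
    rw [heq, Set.inter_univ]
    by_contra hU
    obtain ⟨y, hy, hyc⟩ := nonempty_inter_closedPoints (Z := Uᶜ) (Set.nonempty_compl.2 hU)
      hUo.isClosed_compl.isLocallyClosed
    have := hclosed hyc
    rw [heq, Set.inter_univ] at this
    exact hy this
  haveI : IsClosedImmersion ι := IsClosedImmersion.of_isPreimmersion _ (by rw [huniv]; exact isClosed_univ)
  haveI : IsIso ι := by
    rw [IsClosedImmersion.isIso_iff_ker_eq_bot]
    refine Scheme.IdealSheafData.ext (funext fun U => ?_)
    rw [Scheme.IdealSheafData.ideal_bot, Pi.bot_apply, eq_bot_iff]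
    intro a ha
    haveI : IsNoetherianRing Γ(Y, U.1) := IsLocallyNoetherian.component_noetherian U
    refine (Submodule.mem_bot _).2 (eq_zero_of_forall_mem_pow a fun m hm n => ?_)
    obtain ⟨l, hl⟩ := hfac U.1 U.2 m hm n
    have h1 := (Scheme.Hom.le_ker_comp l ι) U ha
    rw [hl, Scheme.Hom.ker_apply, RingHom.mem_ker] at h1
    rw [← Ideal.Quotient.eq_zero_iff_mem]
    have e0 := U.2.fromSpec_app_self
    rw [Scheme.Hom.comp_app] at h1
    erw [e0] at h1
    exact eq_zero_of_app _ _ U.2.fromSpec_preimage_self a h1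
  exact (cancel_epi ι).1 hι

end Groth.Agent.H58Mg0.Ext
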